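import Groth.Agent.PullRestrLib.Sets
import Groth.Agent.DerCompLib.OverPush
import Groth.Agent.ModSiteLib.ExtZero
import Groth.Agent.ModSiteLib.RestrTensor
import Groth.Agent.ModSiteLib.NatIsoGen
import Groth.Agent.ModSiteLib.Colimits
import Mathlib.Algebra.Category.ModuleCat.Sheaf.PullbackFree
import Mathlib.CategoryTheory.Filtered.Final

/-!
# Inverse image commutes with restriction to objects, for morphisms of ringed sites
-/

set_option autoImplicit false
set_option linter.style.haveILetI false
set_option backward.isDefEq.respectTransparency false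
set_option backward.isDefEq.respectTransparency.types false
set_option maxHeartbeats 1000000

universe u

open CategoryTheory Limits Opposite
open Groth.Agent.ModSiteLib Groth.Agent.ModSiteLib.SetPull ModSiteLib

namespace Groth.Agent.PullRestrLib

section Restr

variable {C : Type u} [SmallCategory C] {J : GrothendieckTopology C} {O : Sheaf J CommRingCat.{u}}
  (U : C) {I : Type u} {obj : I → C} {M : ModSite.Mod O} (m : ∀ i, Sec M (obj i))
  (N : ModSite.Mod (O.over U))

/-- The map of families. -/
noncomputable def toFamily (g : (ModSite.restr O U).obj M ⟶ N) :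
    gS U obj ⟶ typ ((jP (O.over U)).obj N) :=
  PresheafOfModules.freeHomEquiv
    ((oRes O U).map (hatA m) ≫ (restrPreIso O U).inv.app M ≫ (jP (O.over U)).map g :
      frP (O := O.over U) (gS U obj) ⟶ (jP (O.over U)).obj N)

theorem toFamily_app (g : (ModSite.restr O U).obj M ⟶ N) (Z : Over U) (i : I) (p : Z.left ⟶ obj i) :
    (toFamily U m N g).app (op Z) ⟨i, p⟩ = ap g Z (res ((jP O).obj M) p.op (m i)) :=
  congrArg (ap g Z) (hatA_mk m (op Z.left) ⟨i, p⟩)

variable {m} in
theorem bijective_toFamily (hm : IsGenA m) : Function.Bijective (toFamily U m N) := by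
  haveI := isIso_aP_map_of_W (O := O.over U) ((oRes O U).map (hatA m)) (W_oRes U _ (W_hatA hm))
  have h1 : Function.Bijective fun g : (ModSite.restr O U).obj M ⟶ N =>
      (restrPreIso O U).inv.app M ≫ (jP (O.over U)).map g :=
    ((asIso ((restrPreIso O U).inv.app M)).homFromEquiv.symm.bijective).comp
      (((adjP (O.over U)).fullyFaithfulROfIsIsoCounit).homEquiv.bijective)
  have h2 : Function.Bijective fun g : (oRes O U).obj ((jP O).obj M) ⟶ (jP (O.over U)).obj N =>
      (oRes O U).map (hatA m) ≫ g := by
    refine (Function.Bijective.of_comp_iff'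
      (((adjP (O.over U)).homEquiv _ N).symm.bijective) _).1 ?_
    have : (⇑((adjP (O.over U)).homEquiv _ N).symm ∘ fun g => (oRes O U).map (hatA m) ≫ g) =
        (fun g => (aP (O.over U)).map ((oRes O U).map (hatA m)) ≫ g) ∘
          ⇑((adjP (O.over U)).homEquiv _ N).symm :=
      funext fun g => Adjunction.homEquiv_naturality_left_symm _ _ _
    rw [this]
    exact ((asIso ((aP (O.over U)).map ((oRes O U).map (hatA m)))).homFromEquiv.symm.bijective).comp
      ((adjP (O.over U)).homEquiv _ N).symm.bijective
  exact (PresheafOfModules.freeHomEquiv (F := gS U obj)).bijective.comp (h2.comp h1)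

end Restr

variable {C : Type u} [SmallCategory C] {J : GrothendieckTopology C} {O : Sheaf J CommRingCat.{u}}
  {D : Type u} [SmallCategory D] {K : GrothendieckTopology D} {O_D : Sheaf K CommRingCat.{u}}
  (f : ModSite.RMor O O_D) (U : D)

/-- The structure map over `U`. -/
noncomputable abbrev sharpU : ModSite.ringSh (O_D.over U) ⟶
    ((DerCompLib.overFn f U).sheafPushforwardContinuous RingCat.{u} (K.over U) (J.over (f.fn.obj U))).obj
      (ModSite.ringSh (O.over (f.fn.obj U))) :=
  (sheafCompose (K.over U) (forget₂ CommRingCat.{u} RingCat.{u})).map (DerCompLib.sharpOver f U)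

instance isRightAdjoint_pushU : (SheafOfModules.pushforward.{u} (sharpU f U)).IsRightAdjoint :=
  inferInstance

/-- Inverse image over `U`. -/
noncomputable abbrev pullOver : ModSite.Mod (O_D.over U) ⥤ ModSite.Mod (O.over (f.fn.obj U)) :=
  SheafOfModules.pullback.{u} (sharpU f U)

/-- The adjunction over `U`. -/
noncomputable abbrev adjOver : pullOver f U ⊣ DerCompLib.pushOver f U :=
  SheafOfModules.pullbackPushforwardAdjunction.{u} (sharpU f U)

/-- The comparison map. -/
noncomputable def pullRestrHom :
    ModSite.restr O_D U ⋙ pullOver f U ⟶ f.pull ⋙ ModSite.restr O (f.fn.obj U) where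
  app M := ((adjOver f U).homEquiv _ _).symm ((ModSite.restr O_D U).map (f.adj.unit.app M) ≫
    (DerCompLib.pushRestrIso f U).hom.app (f.pull.obj M))
  naturality M M' g := by
    apply ((adjOver f U).homEquiv _ _).injective
    refine ((adjOver f U).homEquiv_naturality_left _ _).trans ?_
    refine Eq.trans ?_ ((adjOver f U).homEquiv_naturality_right _ _).symm
    rw [Equiv.apply_symm_apply, Equiv.apply_symm_apply, ← Category.assoc]
    refine Eq.trans ?_ (Category.assoc _ _ _).symm
    refine (congrArg (· ≫ _) ((ModSite.restr O_D U).map_comp g (f.adj.unit.app M')).symm).trans ?_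
    refine (congrArg (fun t => (ModSite.restr O_D U).map t ≫ _) (f.adj.unit.naturality g)).trans ?_
    rw [Functor.map_comp, Category.assoc]
    exact congrArg (_ ≫ ·) ((DerCompLib.pushRestrIso f U).hom.naturality (f.pull.map g))

variable {I : Type u} {obj : I → D}

/-- Families on the slice, through the image. -/
noncomputable def famEquiv (P : ModSite.Mod (O.over (f.fn.obj U))) :
    (gS U obj ⟶ typ ((jP (O_D.over U)).obj ((DerCompLib.pushOver f U).obj P))) ≃
      Fam (fn := f.fn) (U := U) (obj := obj) (typSh P) where
  toFun φ := ⟨fun Z i p => φ.app (op Z) ⟨i, p⟩, fun Z Z' s i p =>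
    (NatTrans.naturality_apply φ s.op (⟨i, p⟩ : (gS U obj).obj (op Z))).symm⟩
  invFun ψ :=
    { app := fun Z => ↾fun q => ψ.1 Z.unop q.1 q.2
      naturality := fun Z Z' s => ConcreteCategory.hom_ext _ _ fun q =>
        (ψ.2 Z.unop Z'.unop s.unop q.1 q.2).symm }
  left_inv φ := rfl
  right_inv ψ := rfl

theorem isIso_pullRestrHom_app_genMod (obj : I → D) :
    IsIso ((pullRestrHom f U).app (genMod (O := O_D) obj)) := by
  let M := genMod (O := O_D) obj
  let m := genSec (O := O_D) obj
  have hm : IsGenA m := isGenA_genSec
  refine isIso_of_coyoneda_map_bijective _ fun P => ?_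
  let ev : ((ModSite.restr O_D U).obj M ⟶ (DerCompLib.pushOver f U).obj P) →
      Fam (fn := f.fn) (U := U) (obj := obj) (typSh P) :=
    fun a => famEquiv f U P (toFamily U m _ a)
  have hev : Function.Bijective ev :=
    (famEquiv f U P).bijective.comp (bijective_toFamily U _ hm)
  refine (Function.Bijective.of_comp_iff' ((adjOver f U).homEquiv _ P).bijective _).1
    ((Function.Bijective.of_comp_iff' hev _).1 ?_)
  have : (ev ∘ ⇑((adjOver f U).homEquiv _ P) ∘ fun g => (pullRestrHom f U).app M ≫ g) =
      famRestr f.fn U obj (typSh P) ∘ toFamily (f.fn.obj U) (fun i => puS f (m i)) P :=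
    funext fun g => by
      refine Subtype.ext (funext fun Z => funext fun i => funext fun p => ?_)
      refine (toFamily_app U m _ _ Z i p).trans ?_
      refine Eq.trans ?_ (toFamily_app (f.fn.obj U) (fun i => puS f (m i)) P g
        ((Over.post f.fn).obj Z) i (f.fn.map p)).symm
      refine (congrArg (fun t : (ModSite.restr O_D U).obj M ⟶ (DerCompLib.pushOver f U).obj P =>
          ap t Z (res ((jP O_D).obj M) p.op (m i)))
        (((adjOver f U).homEquiv_naturality_right _ g).trans
          (congrArg (· ≫ _) (Equiv.apply_symm_apply _ _)))).trans ?_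
      refine congrArg (ap g ((Over.post f.fn).obj Z)) ?_
      exact app_res ((jP O_D).map (f.adj.unit.app M)) p.op (m i)
  rw [this]
  exact (bijective_famRestr (K := K) f.fn U obj (typSh P)).comp
    (bijective_toFamily (f.fn.obj U) P (isGenA_puS f hm))

theorem preservesColimits_restr {C : Type u} [SmallCategory C] {J : GrothendieckTopology C}
    (O : Sheaf J CommRingCat.{u}) (U : C) : PreservesColimitsOfSize.{u, u} (ModSite.restr O U) := by
  have : (ModSite.restr O U).IsLeftAdjoint :=
    pushforward_isLeftAdjoint_of_isCocontinuous (Over.forget U) (J := J.over U) (K := J)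
      (𝟙 ((ModSite.ringSh O).over U))
  exact (Adjunction.ofIsLeftAdjoint (ModSite.restr O U)).leftAdjoint_preservesColimits

instance isIso_pullRestrHom : IsIso (pullRestrHom f U) := by
  haveI := preservesColimits_restr O_D U
  haveI := preservesColimits_restr O (f.fn.obj U)
  haveI : PreservesColimitsOfSize.{u, u} (pullOver f U) := (adjOver f U).leftAdjoint_preservesColimits
  haveI : PreservesColimitsOfSize.{u, u} f.pull := f.adj.leftAdjoint_preservesColimits
  haveI : PreservesColimitsOfSize.{u, u} (ModSite.restr O_D U ⋙ pullOver f U) := inferInstance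
  haveI : PreservesColimitsOfSize.{u, u} (f.pull ⋙ ModSite.restr O (f.fn.obj U)) := inferInstance
  haveI : PreservesFiniteColimits (ModSite.restr O_D U ⋙ pullOver f U) :=
    PreservesColimitsOfSize.preservesFiniteColimits _
  haveI : PreservesFiniteColimits (f.pull ⋙ ModSite.restr O (f.fn.obj U)) :=
    PreservesColimitsOfSize.preservesFiniteColimits _
  haveI : (pullOver f U).Additive := (adjOver f U).left_adjoint_additive
  haveI : f.pull.Additive := f.adj.left_adjoint_additive
  haveI : (ModSite.restr O_D U ⋙ pullOver f U).Additive := inferInstance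
  haveI : (f.pull ⋙ ModSite.restr O (f.fn.obj U)).Additive := inferInstance
  haveI : ∀ M, IsIso ((pullRestrHom f U).app M) := fun M =>
    NatIsoGen.isIso_app_of_separating (pullRestrHom f U) (fun W : D => genMod (O := O_D) fun _ : PUnit.{u + 1} => W)
      (fun A B a b h => SheafOfModules.hom_ext (PresheafOfModules.hom_ext fun ⟨W⟩ =>
        ModuleCat.hom_ext (LinearMap.ext fun x => by
          obtain ⟨g, hg⟩ := (isGenA_genSec (O := O_D) (obj := fun _ : PUnit.{u + 1} => W) A).2 fun _ => x
          have := congrArg (fun t => ap t W (genSec (fun _ : PUnit.{u + 1} => W) PUnit.unit)) (h W g)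
          rw [← congrFun hg PUnit.unit]
          exact this)))
      (fun W => isIso_pullRestrHom_app_genMod f U _) M
  exact NatIso.isIso_of_isIso_app _

/-- Inverse image commutes with restriction. -/
noncomputable def pullRestrIso (M : ModSite.Mod O_D) :
    (ModSite.restr O (f.fn.obj U)).obj (f.pull.obj M) ≅
      (pullOver f U).obj ((ModSite.restr O_D U).obj M) :=
  ((asIso (pullRestrHom f U)).app M).symm

instance final_overFn : (DerCompLib.overFn f U).Final := by
  refine ⟨fun d => ?_⟩
  let T : StructuredArrow d (DerCompLib.overFn f U) := StructuredArrow.mk (Y := Over.mk (𝟙 U))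
    (Over.homMk (V := (DerCompLib.overFn f U).obj (Over.mk (𝟙 U))) d.hom (by
      show d.hom ≫ f.fn.map (𝟙 U) = d.hom
      rw [f.fn.map_id]
      exact Category.comp_id _))
  haveI : Nonempty (StructuredArrow d (DerCompLib.overFn f U)) := ⟨T⟩
  refine zigzag_isConnected fun a b => ?_
  have key : ∀ c : StructuredArrow d (DerCompLib.overFn f U), c ⟶ T := fun c =>
    StructuredArrow.homMk (Over.homMk c.right.hom (Category.comp_id _)) (by
      ext1
      show c.hom.left ≫ f.fn.map c.right.hom = d.hom
      exact Over.w c.hom)
  exact Relation.ReflTransGen.trans (Zigzag.of_hom (key a)) (Zigzag.of_inv (key b))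

/-- Inverse image over `U` of the structure sheaf. -/
noncomputable def unitIso :
    (pullOver f U).obj (SheafOfModules.unit (ModSite.ringSh (O_D.over U))) ≅
      SheafOfModules.unit (ModSite.ringSh (O.over (f.fn.obj U))) :=
  asIso (SheafOfModules.pullbackObjUnitToUnit.{u} (sharpU f U))

instance preservesColimits_pullOver : PreservesColimitsOfSize.{u, u} (pullOver f U) :=
  (adjOver f U).leftAdjoint_preservesColimits

/-- Generating sections pull back. -/
noncomputable def pullGen {M : ModSite.Mod O_D} {U : D}
    (G : ((ModSite.restr O_D U).obj M).GeneratingSections) :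
    ((ModSite.restr O (f.fn.obj U)).obj (f.pull.obj M)).GeneratingSections :=
  (G.map (pullOver f U) (unitIso f U).symm).ofEpi (pullRestrIso f U M).inv

/-- Presentations pull back. -/
noncomputable def pullPres {M : ModSite.Mod O_D} {U : D}
    (P : ((ModSite.restr O_D U).obj M).Presentation) :
    ((ModSite.restr O (f.fn.obj U)).obj (f.pull.obj M)).Presentation :=
  SheafOfModules.Presentation.ofIsIso (pullRestrIso f U M).inv
    (P.map (pullOver f U) (unitIso f U).symm)

theorem isIso_pullGen_π {M : ModSite.Mod O_D} {U : D}
    (G : ((ModSite.restr O_D U).obj M).GeneratingSections) [IsIso G.π] : IsIso (pullGen f G).π := by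
  rw [pullGen, SheafOfModules.GeneratingSections.ofEpi_π]
  infer_instance

/-- The covering attached to a covering. -/
theorem coversTop_pull {ι : Type*} {X : ι → D} (hX : K.CoversTop X) :
    J.CoversTop fun i => f.fn.obj (X i) :=
  coversTop_image f.fn hX

end Groth.Agent.PullRestrLib
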