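import Groth.Agent.ModSiteLib.PullMono

/-!
# Slices and exact pullback: families on representables
-/

set_option autoImplicit false
set_option linter.style.haveILetI false
set_option backward.isDefEq.respectTransparency false

universe u

open CategoryTheory Limits Opposite
open Groth.Agent.ModSiteLib Groth.Agent.ModSiteLib.SetPull ModSiteLib

namespace Groth.Agent.PullRestrLib

variable {C D : Type u} [SmallCategory C] [SmallCategory D] {J : GrothendieckTopology C}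
  {K : GrothendieckTopology D} (fn : D ⥤ C) [fn.IsContinuous K J]

/-- The terminal presheaf of sets. -/
def tt (E : Type u) [SmallCategory E] : Eᵒᵖ ⥤ Type u := (Functor.const _).obj PUnit

/-- It is terminal. -/
def isTerminalTT (E : Type u) [SmallCategory E] : IsTerminal (tt E) :=
  IsTerminal.ofUniqueHom
    (fun F => { app := fun _ => ↾fun _ => PUnit.unit, naturality := fun _ _ _ => rfl })
    (fun F m => by ext Z x; rfl)

/-- The map of terminal presheaves. -/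
def κ₀ : tt D ⟶ fn.op ⋙ tt C where
  app _ := ↾fun _ => PUnit.unit
  naturality _ _ _ := rfl

variable [PreservesFiniteLimits (fn.sheafPullback (Type u) K J)]

include K in
/-- Every object is locally mapped to images of objects. -/
theorem loc_top (V : C) : Loc J V fun V' _ => ∃ W : D, Nonempty (V' ⟶ fn.obj W) := by
  haveI : PreservesFiniteLimits (presheafToSheaf K (Type u) ⋙ fn.sheafPullback (Type u) K J) :=
    comp_preservesFiniteLimits _ _
  have hs := IsTerminal.isTerminalObj (presheafToSheaf K (Type u) ⋙ fn.sheafPullback (Type u) K J) _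
    (isTerminalTT D)
  have ht := IsTerminal.isTerminalObj (presheafToSheaf J (Type u)) _ (isTerminalTT C)
  haveI : IsIso (comparison (J := J) K fn (κ₀ fn)) := ⟨hs.from _, hs.hom_ext _ _, ht.hom_ext _ _⟩
  exact (loc_lift (J := J) fn (κ₀ fn)
    (fun P => ((isIso_comparison_iff (K := K) fn _).1 inferInstance P).1) V PUnit.unit).mono
    fun V' g ⟨W, h, _, _⟩ => ⟨W, ⟨h⟩⟩

include K in
/-- Preimages of a covering family cover. -/
theorem coversTop_image {I : Type*} {X : I → D} (hX : K.CoversTop X) :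
    J.CoversTop fun i => fn.obj (X i) := by
  intro V
  obtain ⟨S, hS, hp⟩ := (loc_top (J := J) (K := K) fn V).bind
    (q := fun V' _ => ∃ i, Nonempty (V' ⟶ fn.obj (X i))) fun V' g ⟨W, ⟨h⟩⟩ => by
      refine (loc_lift_cover (J := J) fn (hX W) h).mono fun V'' g' ⟨W', h', k, hk, _⟩ => ?_
      obtain ⟨i, ⟨m⟩⟩ := (Sieve.mem_ofObjects_iff _ k).1 hk
      exact ⟨i, ⟨h' ≫ fn.map m⟩⟩
  refine J.superset_covering (fun V' g hg => ?_) hS
  exact (Sieve.mem_ofObjects_iff _ g).2 (hp g hg)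

variable (U : D) {I : Type u} (obj : I → D)

/-- Representables restricted to the slice. -/
abbrev gS : (Over U)ᵒᵖ ⥤ Type u := (Over.forget U).op ⋙ gA obj

/-- Their images. -/
abbrev gS' : (Over (fn.obj U))ᵒᵖ ⥤ Type u :=
  (Over.forget (fn.obj U)).op ⋙ gA fun i => fn.obj (obj i)

/-- A map `(Y, a)` lifted along `k`. -/
structure Lft {Y : Over (fn.obj U)} {i : I} (a : Y.left ⟶ fn.obj (obj i)) {Y' : Over (fn.obj U)}
    (k : Y' ⟶ Y) where
  Z : Over U
  p : Z.left ⟶ obj i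
  h : Y' ⟶ (Over.post fn).obj Z
  eq : k.left ≫ a = h.left ≫ fn.map p

variable {fn U obj}

/-- Composite of a lift. -/
def Lft.comp {Y : Over (fn.obj U)} {i : I} {a : Y.left ⟶ fn.obj (obj i)} {Y' Y'' : Over (fn.obj U)}
    {k : Y' ⟶ Y} (l : Lft fn U obj a k) (g : Y'' ⟶ Y') : Lft fn U obj a (g ≫ k) :=
  ⟨l.Z, l.p, g ≫ l.h, by
    rw [Over.comp_left, Over.comp_left, Category.assoc, Category.assoc, l.eq]⟩

variable (Q : Sheaf (J.over (fn.obj U)) (Type u))

/-- A family on the downstairs slice. -/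
def Fam : Type u :=
  { ψ : ∀ (Z : Over U) (i : I), (Z.left ⟶ obj i) → Q.obj.obj (op ((Over.post fn).obj Z)) //
    ∀ (Z Z' : Over U) (s : Z' ⟶ Z) (i : I) (p : Z.left ⟶ obj i),
      Q.obj.map ((Over.post fn).map s).op (ψ Z i p) = ψ Z' i (s.left ≫ p) }

theorem sheafQ_sep {Y : Over (fn.obj U)} {S : Sieve Y} (hS : S ∈ J.over (fn.obj U) Y)
    {x y : Q.obj.obj (op Y)} (h : ∀ ⦃Y' : Over (fn.obj U)⦄ (k : Y' ⟶ Y), S k →
      Q.obj.map k.op x = Q.obj.map k.op y) : x = y :=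
  (((isSheaf_iff_isSheaf_of_type _ _).1 Q.property).isSeparated _ hS).ext fun Y' k hk => h k hk

variable {Q}

include K in
/-- Two lifts give the same value. -/
theorem Lft.val_eq (ψ : Fam (fn := fn) (U := U) (obj := obj) Q) {Y Y₂ Y' : Over (fn.obj U)} {i : I}
    {a : Y.left ⟶ fn.obj (obj i)} {a₂ : Y₂.left ⟶ fn.obj (obj i)} {k : Y' ⟶ Y} {k₂ : Y' ⟶ Y₂}
    (l : Lft fn U obj a k) (l₂ : Lft fn U obj a₂ k₂) (he : k.left ≫ a = k₂.left ≫ a₂) :
    Q.obj.map l.h.op (ψ.1 l.Z i l.p) = Q.obj.map l₂.h.op (ψ.1 l₂.Z i l₂.p) := by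
  obtain ⟨S, hS, hS'⟩ := ((loc_lift_pair (J := J) (K := K) fn l.h.left l₂.h.left).bind
    (q := fun {Y''} g => ∃ (W : D) (h : Y'' ⟶ fn.obj W) (r : W ⟶ l.Z.left) (r₂ : W ⟶ l₂.Z.left),
      g ≫ l.h.left = h ≫ fn.map r ∧ g ≫ l₂.h.left = h ≫ fn.map r₂ ∧ r ≫ l.p = r₂ ≫ l₂.p)
    fun Y'' g ⟨W, h, r, r₂, e₁, e₂⟩ => by
      refine (loc_lift_eq (J := J) (K := K) fn (r ≫ l.p) (r₂ ≫ l₂.p) h ?_).mono
        fun Y₃ g' ⟨W', h', m, hm, em⟩ => ⟨W', h', m ≫ r, m ≫ r₂, ?_, ?_, ?_⟩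
      · rw [fn.map_comp, fn.map_comp, ← reassoc_of% e₁, ← reassoc_of% e₂, ← l.eq, ← l₂.eq, he]
      · rw [Category.assoc, e₁, fn.map_comp, ← reassoc_of% em]
      · rw [Category.assoc, e₂, fn.map_comp, ← reassoc_of% em]
      · rw [Category.assoc, Category.assoc, hm]).bind
    (q := fun {Y''} g => ∃ (W : D) (h : Y'' ⟶ fn.obj W) (r : W ⟶ l.Z.left) (r₂ : W ⟶ l₂.Z.left),
      g ≫ l.h.left = h ≫ fn.map r ∧ g ≫ l₂.h.left = h ≫ fn.map r₂ ∧ r ≫ l.p = r₂ ≫ l₂.p ∧
        r ≫ l.Z.hom = r₂ ≫ l₂.Z.hom)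
    fun Y'' g ⟨W, h, r, r₂, e₁, e₂, e₃⟩ => by
      refine (loc_lift_eq (J := J) (K := K) fn (r ≫ l.Z.hom) (r₂ ≫ l₂.Z.hom) h ?_).mono
        fun Y₃ g' ⟨W', h', m, hm, em⟩ => ⟨W', h', m ≫ r, m ≫ r₂, ?_, ?_, ?_, ?_⟩
      · have w₁ : l.h.left ≫ fn.map l.Z.hom = Y'.hom := Over.w l.h
        have w₂ : l₂.h.left ≫ fn.map l₂.Z.hom = Y'.hom := Over.w l₂.h
        rw [fn.map_comp, fn.map_comp, ← reassoc_of% e₁, ← reassoc_of% e₂, w₁, w₂]
      · rw [Category.assoc, e₁, fn.map_comp, ← reassoc_of% em]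
      · rw [Category.assoc, e₂, fn.map_comp, ← reassoc_of% em]
      · rw [Category.assoc, Category.assoc, e₃]
      · rw [Category.assoc, Category.assoc, hm]
  refine sheafQ_sep Q (J.overEquiv_symm_mem_over Y' S hS) fun Y'' g hg => ?_
  rw [Sieve.overEquiv_symm_iff] at hg
  obtain ⟨W, h, r, r₂, e₁, e₂, e₃, e₄⟩ := hS' g.left hg
  let W₀ : Over U := Over.mk (r ≫ l.Z.hom)
  let s : W₀ ⟶ l.Z := Over.homMk r
  let s₂ : W₀ ⟶ l₂.Z := Over.homMk r₂ e₄.symm
  let h₀ : Y'' ⟶ (Over.post fn).obj W₀ := Over.homMk h (by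
    change h ≫ fn.map (r ≫ l.Z.hom) = Y''.hom
    rw [fn.map_comp, ← reassoc_of% e₁, show l.h.left ≫ fn.map l.Z.hom = Y'.hom from Over.w l.h, Over.w g])
  have hs : g ≫ l.h = h₀ ≫ (Over.post fn).map s := by ext1; exact e₁
  have hs₂ : g ≫ l₂.h = h₀ ≫ (Over.post fn).map s₂ := by ext1; exact e₂
  rw [← FunctorToTypes.map_comp_apply, ← FunctorToTypes.map_comp_apply, ← op_comp, ← op_comp, hs, hs₂,
    op_comp, op_comp, FunctorToTypes.map_comp_apply, FunctorToTypes.map_comp_apply, ψ.2, ψ.2]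
  exact congrArg (fun t => Q.obj.map h₀.op (ψ.1 W₀ i t)) e₃

include K in
theorem lft_cover (Y : Over (fn.obj U)) {i : I} (a : Y.left ⟶ fn.obj (obj i)) :
    ∃ S ∈ J.over (fn.obj U) Y, ∀ ⦃Y' : Over (fn.obj U)⦄ (k : Y' ⟶ Y), S k →
      Nonempty (Lft fn U obj a k) := by
  obtain ⟨S, hS, hS'⟩ := loc_lift_pair (J := J) (K := K) fn a Y.hom
  refine ⟨_, J.overEquiv_symm_mem_over Y S hS, fun Y' k hk => ?_⟩
  rw [Sieve.overEquiv_symm_iff] at hk
  obtain ⟨W, h, p, q, e₁, e₂⟩ := hS' k.left hk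
  exact ⟨⟨Over.mk q, p, Over.homMk h (by
    change h ≫ fn.map q = Y'.hom
    rw [← e₂, Over.w k]), e₁⟩⟩

include K in
theorem existsUnique_val (ψ : Fam (fn := fn) (U := U) (obj := obj) Q) (Y : Over (fn.obj U)) {i : I}
    (a : Y.left ⟶ fn.obj (obj i)) :
    ∃! t : Q.obj.obj (op Y), ∀ ⦃Y' : Over (fn.obj U)⦄ (k : Y' ⟶ Y) (l : Lft fn U obj a k),
      Q.obj.map k.op t = Q.obj.map l.h.op (ψ.1 l.Z i l.p) := by
  obtain ⟨S, hS, hS'⟩ := lft_cover (J := J) (K := K) (obj := obj) Y a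
  let x : Presieve.FamilyOfElements Q.obj S.arrows := fun Y' k hk =>
    Q.obj.map (hS' k hk).some.h.op (ψ.1 (hS' k hk).some.Z i (hS' k hk).some.p)
  have hx : x.Compatible := by
    rw [Presieve.compatible_iff_sieveCompatible]
    intro Y' Y'' k g hk
    refine Eq.trans ?_ (FunctorToTypes.map_comp_apply Q.obj _ _ _)
    rw [← op_comp]
    exact Lft.val_eq (K := K) ψ _ ((hS' k hk).some.comp g) rfl
  have hQ := (isSheaf_iff_isSheaf_of_type _ _).1 Q.property S hS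
  refine ⟨hQ.amalgamate x hx, fun Y' k l => ?_, fun t ht => ?_⟩
  · refine sheafQ_sep Q (GrothendieckTopology.pullback_stable _ k hS) fun Y'' g hg => ?_
    rw [← FunctorToTypes.map_comp_apply, ← FunctorToTypes.map_comp_apply, ← op_comp, ← op_comp,
      hQ.valid_glue hx _ hg]
    exact Lft.val_eq (K := K) ψ _ (l.comp g) rfl
  · refine sheafQ_sep Q hS fun Y' k hk => ?_
    rw [ht k (hS' k hk).some, hQ.valid_glue hx _ hk]

variable (fn U obj) (Q)

/-- Restriction of families. -/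
def famRestr (φ : gS' fn U obj ⟶ Q.obj) : Fam (fn := fn) (U := U) (obj := obj) Q :=
  ⟨fun Z i p => φ.app (op ((Over.post fn).obj Z)) ⟨i, fn.map p⟩, fun Z Z' s i p => by
    refine (NatTrans.naturality_apply φ ((Over.post fn).map s).op _).symm.trans ?_
    exact congrArg (fun t : fn.obj Z'.left ⟶ fn.obj (obj i) =>
      φ.app (op ((Over.post fn).obj Z')) ⟨i, t⟩) (fn.map_comp s.left p).symm⟩

include K in
/-- Restriction of families is bijective. -/
theorem bijective_famRestr : Function.Bijective (famRestr fn U obj Q) := by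
  constructor
  · intro φ φ' he
    refine NatTrans.ext (funext fun ⟨Y⟩ => ConcreteCategory.hom_ext _ _ fun ⟨i, a⟩ => ?_)
    obtain ⟨S, hS, hS'⟩ := lft_cover (J := J) (K := K) (obj := obj) Y a
    refine sheafQ_sep Q hS fun Y' k hk => ?_
    obtain ⟨l⟩ := hS' k hk
    have e : ∀ χ : gS' fn U obj ⟶ Q.obj, Q.obj.map k.op (χ.app (op Y) ⟨i, a⟩) =
        Q.obj.map l.h.op ((famRestr fn U obj Q χ).1 l.Z i l.p) := fun χ => by
      refine (NatTrans.naturality_apply χ k.op _).symm.trans ?_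
      refine Eq.trans ?_ (NatTrans.naturality_apply χ l.h.op _)
      exact congrArg (fun t : Y'.left ⟶ fn.obj (obj i) => χ.app (op Y') ⟨i, t⟩) l.eq
    rw [e φ, e φ', he]
  · intro ψ
    choose t ht hu using fun (Y : Over (fn.obj U)) (i : I) (a : Y.left ⟶ fn.obj (obj i)) =>
      existsUnique_val (J := J) (K := K) ψ Y a
    let φ : gS' fn U obj ⟶ Q.obj :=
      { app := fun Y => ↾fun q => t Y.unop q.1 q.2
        naturality := fun Y Y₂ j => by
          ext ⟨i, a⟩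
          refine (hu Y₂.unop i (j.unop.left ≫ a) _ fun Y' k l => ?_).symm
          show Q.obj.map k.op (Q.obj.map j (t Y.unop i a)) = _
          rw [← FunctorToTypes.map_comp_apply]
          exact ht Y.unop i a (k ≫ j.unop) ⟨l.Z, l.p, l.h,
            (congrArg (· ≫ a) (Over.comp_left _ _ _ _ _)).trans ((Category.assoc _ _ _).trans l.eq)⟩ }
    refine ⟨φ, Subtype.ext (funext fun Z => funext fun i => funext fun p => ?_)⟩
    have h := ht ((Over.post fn).obj Z) i (fn.map p) (𝟙 _)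
      ⟨Z, p, 𝟙 _, rfl⟩
    rw [op_id, FunctorToTypes.map_id_apply, FunctorToTypes.map_id_apply] at h
    exact h

end Groth.Agent.PullRestrLib
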